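import Mathlib.CategoryTheory.Limits.Constructions.Filtered
import Mathlib.CategoryTheory.Limits.Constructions.LimitsOfProductsAndEqualizers
import Mathlib.CategoryTheory.Limits.Preserves.Finite
import Mathlib.CategoryTheory.Limits.Preserves.Filtered

/-!
# Finite and filtered colimits give all colimits, for preservation
-/

universe w w' v u v' u'

open CategoryTheory CategoryTheory.Limits CategoryTheory.Limits.CoproductsFromFiniteFiltered

noncomputable section

namespace Groth.Agent.RepTop7

variable {C : Type u} [Category.{v} C] {E : Type u'} [Category.{v'} E] (H : C ⥤ E)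

set_option backward.isDefEq.respectTransparency false in
theorem preservesColimitsOfShape_discrete (α : Type w) [HasFiniteCoproducts C]
    [HasColimitsOfShape (Finset (Discrete α)) C] [PreservesColimitsOfShape (Finset (Discrete α)) H]
    [PreservesFiniteCoproducts H] : PreservesColimitsOfShape (Discrete α) H := by
  refine ⟨fun {F} => preservesColimit_of_preserves_colimit_cocone (liftToFinsetColimitCocone F).isColimit ?_⟩
  let hT := isColimitOfPreserves H (colimit.isColimit (liftToFinsetObj F))
  let hfin := fun J : Finset (Discrete α) =>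
    isColimitOfPreserves H (colimit.isColimit (Discrete.functor fun x : J => F.obj x.1))
  let part : ∀ (s : Cocone (F ⋙ H)) (J : Finset (Discrete α)),
      (liftToFinsetObj F ⋙ H).obj J ⟶ s.pt := fun s J =>
    (hfin J).desc { pt := s.pt, ι := Discrete.natTrans fun x => s.ι.app x.as.1 }
  have hpart : ∀ (s : Cocone (F ⋙ H)) (J : Finset (Discrete α)) (x : J),
      H.map (Sigma.ι (fun x : J => F.obj x.1) x) ≫ part s J = s.ι.app x.1 := fun s J x =>
    (hfin J).fac _ ⟨x⟩
  let T : ∀ s : Cocone (F ⋙ H), Cocone (liftToFinsetObj F ⋙ H) := fun s =>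
    { pt := s.pt
      ι :=
        { app := part s
          naturality := fun J K f => by
            refine (hfin J).hom_ext fun ⟨x⟩ => ?_
            show H.map (Sigma.ι (fun x : J => F.obj x.1) x) ≫ H.map ((liftToFinsetObj F).map f) ≫ part s K =
              H.map (Sigma.ι (fun x : J => F.obj x.1) x) ≫ part s J ≫ 𝟙 s.pt
            rw [Category.comp_id, ← H.map_comp_assoc]
            erw [Sigma.ι_desc]
            exact (hpart s K ⟨x.1, f.down.down x.2⟩).trans (hpart s J x).symm } }
  refine
    { desc := fun s => hT.desc (T s)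
      fac := fun s j => ?_
      uniq := fun s φ hφ => ?_ }
  · show H.map (Sigma.ι (fun x : ({j} : Finset (Discrete α)) => F.obj x.1) ⟨j, by simp⟩ ≫
        colimit.ι (liftToFinsetObj F) {j}) ≫ hT.desc (T s) = s.ι.app j
    rw [H.map_comp, Category.assoc]
    refine (congrArg (fun t => _ ≫ t) (hT.fac (T s) {j})).trans ?_
    exact hpart s {j} ⟨j, by simp⟩
  · refine hT.hom_ext fun J => (hfin J).hom_ext fun ⟨x⟩ => ?_
    refine Eq.trans ?_ (congrArg (fun t => H.map (Sigma.ι (fun x : J => F.obj x.1) x) ≫ t) (hT.fac (T s) J)).symm
    refine Eq.trans ?_ (hpart s J x).symm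
    rw [← hφ x.1]
    show H.map (Sigma.ι (fun x : J => F.obj x.1) x) ≫ H.map (colimit.ι (liftToFinsetObj F) J) ≫ φ =
      H.map (Sigma.ι (fun y : ({x.1} : Finset (Discrete α)) => F.obj y.1) ⟨x.1, by simp⟩ ≫
        colimit.ι (liftToFinsetObj F) {x.1}) ≫ φ
    rw [← H.map_comp_assoc]
    congr 2
    have hw := colimit.w (liftToFinsetObj F) (homOfLE (Finset.singleton_subset_iff.2 x.2))
    conv_rhs => rw [← hw]
    erw [← Category.assoc, Sigma.ι_desc]

theorem preservesColimits_of_finite_and_filtered [HasFiniteColimits C] [HasFilteredColimitsOfSize.{w, w} C]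
    [PreservesFiniteColimits H] [PreservesFilteredColimitsOfSize.{w, w} H] :
    PreservesColimitsOfSize.{w, w} H := by
  haveI : HasColimitsOfSize.{w, w} C := has_colimits_of_finite_and_filtered
  haveI : ∀ α : Type w, PreservesColimitsOfShape (Discrete α) H := fun α => preservesColimitsOfShape_discrete H α
  exact preservesColimits_of_preservesCoequalizers_and_coproducts H

end Groth.Agent.RepTop7
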