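import Groth.Agent.BMLib.Dim

/-!
# Dimension from components
-/

universe u

open AlgebraicGeometry CategoryTheory Order Topology

namespace Groth.Agent.RepTop7

/-- In a scheme all of whose components have dimension `d` the dimension is at most `d`. -/
theorem topologicalKrullDim_le_of_components {X : Scheme.{u}} (d : ℕ)
    (hd : ∀ Z : Set X, Z ∈ irreducibleComponents X → topologicalKrullDim ↥Z = (d : WithBot ℕ∞)) :
    topologicalKrullDim X ≤ d := by
  letI := specializationOrder X
  rw [BMLib.topologicalKrullDim_eq_points]
  refine iSup_le fun s => ?_
  have h1 := @Order.length_le_height_last X (specializationOrder X).toPreorder s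
  obtain ⟨Z, hZ, hsub⟩ := exists_mem_irreducibleComponents_subset_of_isIrreducible
    (closure ({(@RelSeries.last X _ s)} : Set X)) isIrreducible_singleton.closure
  have h2 := (BMLib.topologicalKrullDim_closure_singleton (@RelSeries.last X _ s)).symm.le.trans
    ((Topology.IsEmbedding.inclusion hsub).isInducing.topologicalKrullDim_le.trans (hd Z hZ).le)
  exact le_trans (WithBot.coe_le_coe.2 h1) h2

end Groth.Agent.RepTop7
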