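import Groth.Agent.QCohSupX.Groth
import Groth.Agent.QcqsColim.FTSub
import Groth.Agent.QCoh.RpushAbGod
import Groth.Agent.KFlatLib.Scheme.AffineSections
import Groth.Agent.S7411
import Groth.Prelude.Def_Canon
import Mathlib.Algebra.Homology.ShortComplex.ExactFunctor
import Groth.Agent.RepTop7.Coprod
import Groth.Agent.ToposFinLib.Algebraic2

/-!
# Top cohomology as a colimit preserving functor on quasi-coherent modules
-/

set_option linter.style.haveILetI false
set_option linter.unusedSectionVars false
set_option backward.isDefEq.respectTransparency false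
set_option backward.isDefEq.respectTransparency.types false
set_option maxHeartbeats 1000000

universe u

open CategoryTheory CategoryTheory.Limits AlgebraicGeometry TopologicalSpace Opposite Abelian

attribute [local instance] Groth.Agent.QCoh.hasFiniteBiproducts

noncomputable section

namespace Groth.Agent.RepTop7

open Groth.Agent

variable (A : Type u) [CommRing A] (X : Scheme.{u}) [X.Over (Spec (CommRingCat.of A))] (n : ℕ)

/-- `H^n` on quasi-coherent modules, with values in `A`-modules. -/
def topH : QCohCat.QCoh X ⥤ ModuleCat.{u} A where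
  obj F := ModuleCat.of A (Coh.HH X F.obj n)
  map φ := ModuleCat.ofHom (Canon.HHlin A φ.hom n)
  map_id F := by
    refine ModuleCat.hom_ext (LinearMap.ext fun x => ?_)
    show Sheaf.H.map ((SheafOfModules.toSheaf X.ringCatSheaf).map (𝟙 F.obj)) n x = x
    rw [CategoryTheory.Functor.map_id, Sheaf.H.map_id_apply]
  map_comp φ ψ := by
    refine ModuleCat.hom_ext (LinearMap.ext fun x => ?_)
    show Sheaf.H.map ((SheafOfModules.toSheaf X.ringCatSheaf).map (φ.hom ≫ ψ.hom)) n x = _
    rw [Functor.map_comp, Sheaf.H.map_comp_apply]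
    rfl

/-- The underlying functor to abelian groups. -/
abbrev topHAb : QCohCat.QCoh X ⥤ AddCommGrpCat.{u} :=
  (QCohCat.isQCoh X).ι ⋙ QCoh.toAbFunctor X ⋙ Sheaf.functorH.{u, u} (Opens.grothendieckTopology X) n

/-- Forgetting the module structure. -/
def topHForget : topH A X n ⋙ forget₂ (ModuleCat.{u} A) AddCommGrpCat.{u} ≅ topHAb (X := X) (n := n) :=
  NatIso.ofComponents (fun _ => Iso.refl _) fun _ => by
    ext x
    rfl

instance : (topH A X n).Additive where
  map_add {F G φ ψ} := by
    refine ModuleCat.hom_ext (LinearMap.ext fun x => ?_)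
    show Sheaf.H.map ((SheafOfModules.toSheaf X.ringCatSheaf).map (φ.hom + ψ.hom)) n x = _
    rw [Functor.map_add, Sheaf.H.map_add_apply]
    rfl

theorem preservesFilteredColimits [CompactSpace X] [QuasiSeparatedSpace X] (Λ : Type u) [SmallCategory Λ]
    [IsFiltered Λ] : PreservesColimitsOfShape Λ (topH A X n) := by
  haveI : CompactSpace (TopCat.of X) := inferInstanceAs (CompactSpace X)
  haveI : QuasiSeparatedSpace (TopCat.of X) := inferInstanceAs (QuasiSeparatedSpace X)
  have h1 : ToposFin.IsCoherent (⊤_ (ToposFin.Sh (Opens.grothendieckTopology (TopCat.of X)))) := by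
    have hU : ToposFin.IsCoherent (ToposFin.eps (Opens.grothendieckTopology (TopCat.of X)) (⊤ : Opens (TopCat.of X))) :=
      QcqsColim.isCoherent_eps_of_isCompact isCompact_univ
    exact QcqsColim.isCoherent_of_iso (QcqsColim.isTerminalEpsTop.uniqueUpToIso terminalIsTerminal) hU
  haveI : PreservesColimitsOfShape Λ (Sheaf.functorH.{u, u} (Opens.grothendieckTopology (TopCat.of X)) n) :=
    ⟨fun {D} => ((ToposFinLib.comm_of_algebraic QcqsColim.isAlgebraic h1 n D).of_iso
      ToposFinLib.nonempty_freeSh_terminal_iso_const.some).preservesColimit⟩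
  haveI : PreservesColimitsOfShape Λ (QCoh.toAbFunctor X) :=
    inferInstanceAs (PreservesColimitsOfShape Λ (KFlatLib.toAb X))
  haveI : PreservesColimitsOfShape Λ (topH A X n ⋙ forget₂ (ModuleCat.{u} A) AddCommGrpCat.{u}) :=
    preservesColimitsOfShape_of_natIso (topHForget A X n).symm
  exact preservesColimitsOfShape_of_reflects_of_preserves _ (forget₂ (ModuleCat.{u} A) AddCommGrpCat.{u})

/-- With vanishing above `n` the functor is right exact. -/
theorem preservesFiniteColimits_topH (hvan : ∀ M : X.Modules, Coh.IsQCoh M → Subsingleton (Coh.HH X M (n + 1))) :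
    PreservesFiniteColimits (topH A X n) := by
  refine ((Functor.preservesFiniteColimits_tfae (topH A X n)).out 0 3).mp fun S hS => ?_
  have hS' : (S.map (QCohCat.isQCoh X).ι).ShortExact := by
    haveI : PreservesFiniteColimits (QCohCat.isQCoh X).ι :=
      PreservesColimitsOfSize.preservesFiniteColimits.{u, u} _
    exact hS.map_of_exact _
  have hT := KFlatLib.shortExact_toAb hS'
  constructor
  · rw [ShortComplex.moduleCat_exact_iff]
    intro x hx
    exact Ext.covariant_sequence_exact₂ _ hT x hx
  · rw [ModuleCat.epi_iff_surjective]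
    intro z
    haveI := hvan S.X₁.obj S.X₁.property
    exact Ext.covariant_sequence_exact₃ _ hT z rfl
      (Subsingleton.elim (α := Coh.HH X S.X₁.obj (n + 1)) _ _)

theorem preservesColimits_topH [CompactSpace X] [QuasiSeparatedSpace X]
    (hvan : ∀ M : X.Modules, Coh.IsQCoh M → Subsingleton (Coh.HH X M (n + 1))) :
    PreservesColimitsOfSize.{u, u} (topH A X n) := by
  haveI := preservesFiniteColimits_topH A X n hvan
  haveI : PreservesFilteredColimitsOfSize.{u, u} (topH A X n) :=
    ⟨fun Λ _ _ => preservesFilteredColimits A X n Λ⟩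
  exact preservesColimits_of_finite_and_filtered _

/-- A qcqs scheme with cohomological dimension at most `n` has a dualizing pair in degree `n`. -/
theorem exists_isRDualOver [CompactSpace X] [QuasiSeparatedSpace X]
    (hvan : ∀ M : X.Modules, Coh.IsQCoh M → Subsingleton (Coh.HH X M (n + 1))) :
    ∃ (ω : X.Modules) (tr : Coh.HH X ω n →ₗ[A] A), Canon.IsRDualOver A X n ω tr := by
  haveI := preservesColimits_topH A X n hvan
  haveI : (topH A X n).IsLeftAdjoint := QCohSupX.isLeftAdjoint_of_preservesColimits X _
  let adj := Adjunction.ofIsLeftAdjoint (topH A X n)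
  let ω := (topH A X n).rightAdjoint.obj (ModuleCat.of A A)
  refine ⟨ω.obj, (adj.counit.app (ModuleCat.of A A)).hom, ω.property, fun F hF => ?_⟩
  let F' : QCohCat.QCoh X := ⟨F, hF⟩
  let e : (F ⟶ ω.obj) ≃ (Coh.HH X F n →ₗ[A] A) :=
    ((InducedCategory.homEquiv (X := F') (Y := ω)).symm.trans (adj.homEquiv F' (ModuleCat.of A A)).symm).trans
      ModuleCat.homEquiv
  have he : Canon.dualityMap A X n ω.obj (adj.counit.app (ModuleCat.of A A)).hom F = e := by
    funext φ
    show _ = ((adj.homEquiv F' (ModuleCat.of A A)).symm (ObjectProperty.homMk φ)).hom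
    rw [Adjunction.homEquiv_counit]
    rfl
  rw [he]
  exact e.bijective

/-- Cohomology of quasi-coherent modules vanishes above the dimension of the fibres. -/
theorem subsingleton_HH_of_fiber_dim [IsProper (X ↘ Spec (CommRingCat.of A))]
    (hd : ∀ y : ↥(Spec (CommRingCat.of A)),
      topologicalKrullDim ↥((X ↘ Spec (CommRingCat.of A)).fiber y) ≤ (n : WithBot ℕ∞))
    (M : X.Modules) (hM : Coh.IsQCoh M) (i : ℕ) (hi : n < i) : Subsingleton (Coh.HH X M i) := by
  let f := X ↘ Spec (CommRingCat.of A)
  haveI : Coh.IsQCoh M := hM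
  obtain ⟨e⟩ := QCoh.nonempty_HH_equiv_sections f hM i
  have h0 : Subsingleton ↑(((Coh.RpushAb f i).obj (Coh.toAb M)).obj.obj (op ⊤)) := by
    refine ⟨fun s t => TopCat.Presheaf.section_ext ((Coh.RpushAb f i).obj (Coh.toAb M)) ⊤ s t fun y _ => ?_⟩
    haveI := AddCommGrpCat.subsingleton_of_isZero (Groth.Agent.S7411.result f y n (hd y) M i hi)
    exact Subsingleton.elim _ _
  exact e.toEquiv.subsingleton

end Groth.Agent.RepTop7
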